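import Groth.Agent.H64.Boot3.OpenChart
import Groth.Agent.H65.AlgSpOpenCover2
import Groth.Agent.H65.QuotEtale
import Groth.Agent.H53.Points
import Mathlib.CategoryTheory.Sites.Subsheaf

/-!
# Assembling a quotient sheaf from local étale quotient charts

Let `p : h_U ⟶ F` be the quotient map of a flat lfp equivalence relation `s, t : R ⟶ U` of schemes.
Suppose that every point of `U` lies in the image of a flat lfp `g : U' ⟶ U` which comes with an fppf
covering `π : U' ⟶ V` and a map `q : h_V ⟶ F`, `π ≫ q = g ≫ p`, whose kernel pair is an étale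
equivalence relation of schemes.  Then `F` is an algebraic space.
-/

set_option autoImplicit false
universe u
open CategoryTheory CategoryTheory.Limits AlgebraicGeometry Opposite

namespace Groth.Agent.H64.Boot3

open AlgSp

variable {S : Scheme.{u}}

/-- The kernel pair of `q` is the kernel pair of the epi part of its image factorisation. -/
theorem isPullback_toImage {F : Sp S} {A B : Sp S} {a b : A ⟶ B} (q : B ⟶ F)
    (sq : IsPullback a b q q) : IsPullback a b (Sheaf.toImage q) (Sheaf.toImage q) := by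
  have hw : a ≫ Sheaf.toImage q = b ≫ Sheaf.toImage q := by
    rw [← cancel_mono (Sheaf.imageι q), Category.assoc, Category.assoc, Sheaf.toImage_ι, sq.w]
  have key : ∀ {Z : Sp S} (x y : Z ⟶ B), x ≫ Sheaf.toImage q = y ≫ Sheaf.toImage q →
      x ≫ q = y ≫ q := fun x y h => by
    calc x ≫ q = (x ≫ Sheaf.toImage q) ≫ Sheaf.imageι q := by
          rw [Category.assoc, Sheaf.toImage_ι]
      _ = (y ≫ Sheaf.toImage q) ≫ Sheaf.imageι q := by rw [h]
      _ = y ≫ q := by rw [Category.assoc, Sheaf.toImage_ι]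
  refine ⟨⟨hw⟩, ⟨PullbackCone.IsLimit.mk _ (fun c => sq.lift c.fst c.snd (key _ _ c.condition))
    (fun c => sq.lift_fst _ _ _)
    (fun c => sq.lift_snd _ _ _) (fun c l h1 h2 => sq.hom_ext (by rw [h1, sq.lift_fst])
      (by rw [h2, sq.lift_snd]))⟩⟩

/-- **Assembly.** -/
theorem isAlgSpace_of_charts {F : Sp S} {R U : Over S} (s t : R ⟶ U) (p : (yon S).obj U ⟶ F)
    [Epi p] (sqR : IsPullback ((yon S).map t) ((yon S).map s) p p) (hsfl : Flat s.left)
    (hsfp : LocallyOfFinitePresentation s.left) (ht : LocallyOfFiniteType t.left)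
    (hch : ∀ x : U.left, ∃ (U' V RV : Over S) (g : U' ⟶ U) (π : U' ⟶ V)
      (q : (yon S).obj V ⟶ F) (sV tV : RV ⟶ V),
      x ∈ Set.range g.left ∧ Flat g.left ∧ LocallyOfFinitePresentation g.left ∧
        Surjective π.left ∧ (yon S).map π ≫ q = (yon S).map g ≫ p ∧
        IsPullback ((yon S).map tV) ((yon S).map sV) q q ∧ Etale sV.left) :
    IsAlgSpace F := by
  choose U' V RV g π q sV tV hx hgfl hgfp hπS hq sqV hsVE using hch
  refine Groth.Agent.H65.AlgSpBoot.isAlgSpace_of_open_cover_points
    (fun x => Sheaf.image (q x)) (fun x => Sheaf.imageι (q x)) (fun x => ?_) (fun x => ?_)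
    (fun y => ?_)
  · -- the image is an algebraic space
    have sq' := isPullback_toImage (q x) (sqV x)
    obtain ⟨r, hr⟩ := (yon S).map_surjective ((sqV x).lift (𝟙 _) (𝟙 _) rfl)
    have hrs : r ≫ sV x = 𝟙 (V x) := by
      apply (yon S).map_injective
      rw [Functor.map_comp, hr, (sqV x).lift_snd, CategoryTheory.Functor.map_id]
    have hsS : Surjective (sV x).left := ⟨fun y => ⟨r.left y, by
      rw [← Scheme.Hom.comp_apply, ← Over.comp_left, hrs]; rfl⟩⟩
    exact Groth.Agent.H65.QuotEtale.isAlgSpace_of_etale_kernelPair (sV x) (tV x)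
      (Sheaf.toImage (q x)) sq' (hsVE x) hsS
  · -- the image is open
    refine repWith_isOpenImmersion_of_chart s t p sqR hsfl hsfp ht (g x) (hgfl x) (hgfp x) (π x)
      (hπS x) (Sheaf.toImage (q x)) (Sheaf.imageι (q x)) ?_
    rw [Sheaf.toImage_ι, hq x]
  · -- the images cover
    obtain ⟨u, rfl⟩ := Groth.Agent.H65.QuotSpFppf.isSurjectiveMor_of_epi p y
    obtain ⟨u', hu'⟩ := hx (Points.toScheme U u)
    refine ⟨Points.toScheme U u, Points.ofPt ((yon S).map (π _) ≫ Sheaf.toImage (q _)) u', ?_⟩
    rw [Points.map_ofPt, Category.assoc, Sheaf.toImage_ι, hq, Groth.Agent.H53.ofPt_yon_map_comp,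
      hu', Points.ofPt_eq_map_ofScheme, Points.ofScheme_toScheme]

end Groth.Agent.H64.Boot3
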