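import Groth.Agent.H64.Boot3.Assemble
import Groth.Agent.H52.Epi
import Groth.Agent.H50.Quot
import Groth.Agent.H49.AlgSpQuot

/-!
# Descending local quotient charts to the quotient sheaf

Relation-level interface for `isAlgSpace_of_charts`: the chart maps `q : h_V ⟶ F` are constructed by
descent along the fppf covering `π : U' ⟶ V`, and their kernel pairs are computed.
-/

set_option autoImplicit false
universe u
open CategoryTheory CategoryTheory.Limits AlgebraicGeometry Opposite

namespace Groth.Agent.H64.Boot3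

open AlgSp

variable {S : Scheme.{u}}

/-- An fppf covering of schemes gives an epimorphism of representable sheaves. -/
theorem epi_yon_map_of_fppf {A B : Over S} (c : A ⟶ B) (h1 : Flat c.left)
    (h2 : LocallyOfFinitePresentation c.left) (h3 : Surjective c.left) : Epi ((yon S).map c) :=
  Groth.Agent.H52.epi_of_repWith_fppf _ ((repWith_yon_map_iff @Flat c).2 h1)
    ((repWith_yon_map_iff @LocallyOfFinitePresentation c).2 h2)
    ((repWith_yon_map_iff @Surjective c).2 h3)

/-- Descent of maps of sheaves along an fppf covering of schemes. -/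
theorem exists_desc_of_fppf {F : Sp S} {A B : Over S} (c : A ⟶ B) (h1 : Flat c.left)
    (h2 : LocallyOfFinitePresentation c.left) (h3 : Surjective c.left) (f : (yon S).obj A ⟶ F)
    (hf : (yon S).map (pullback.fst c c) ≫ f = (yon S).map (pullback.snd c c) ≫ f) :
    ∃ q : (yon S).obj B ⟶ F, (yon S).map c ≫ q = f := by
  have hepi : Epi ((yon S).map c) := epi_yon_map_of_fppf c h1 h2 h3
  have hreg : IsRegularEpi ((yon S).map c) := IsRegularEpiCategory.regularEpiOfEpi _
  have hk : IsKernelPair ((yon S).map c) ((yon S).map (pullback.fst c c))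
      ((yon S).map (pullback.snd c c)) := (IsPullback.of_hasPullback c c).map (yon S)
  exact IsRegularEpi.exists_of_isKernelPair _ hk f hf

/-- A common fppf refinement on which two points of `V` lift to `U'`. -/
theorem exists_common_lift {U' V : Over S} (π : U' ⟶ V) (h1 : Flat π.left)
    (h2 : LocallyOfFinitePresentation π.left) (h3 : Surjective π.left) {T : Over S}
    (a' b' : T ⟶ V) :
    ∃ (T' : Over S) (c : T' ⟶ T) (a b : T' ⟶ U'), Flat c.left ∧
      LocallyOfFinitePresentation c.left ∧ Surjective c.left ∧ a ≫ π = c ≫ a' ∧ b ≫ π = c ≫ b' := by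
  have hP : ∀ {X : Over S} (x : X ⟶ V), Flat (pullback.fst x π).left ∧
      LocallyOfFinitePresentation (pullback.fst x π).left ∧ Surjective (pullback.fst x π).left :=
    fun x => ⟨MorphismProperty.of_isPullback
      (P := MorphismProperty.inverseImage (@Flat : MorphismProperty Scheme.{u}) (Over.forget S))
      (IsPullback.of_hasPullback x π).flip h1,
    MorphismProperty.of_isPullback
      (P := MorphismProperty.inverseImage
        (@LocallyOfFinitePresentation : MorphismProperty Scheme.{u}) (Over.forget S))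
      (IsPullback.of_hasPullback x π).flip h2,
    MorphismProperty.of_isPullback
      (P := MorphismProperty.inverseImage (@Surjective : MorphismProperty Scheme.{u})
        (Over.forget S))
      (IsPullback.of_hasPullback x π).flip h3⟩
  obtain ⟨f1, f2, f3⟩ := hP a'
  obtain ⟨g1, g2, g3⟩ := hP (pullback.fst a' π ≫ b')
  refine ⟨pullback (pullback.fst a' π ≫ b') π, pullback.fst _ π ≫ pullback.fst a' π,
    pullback.fst _ π ≫ pullback.snd a' π, pullback.snd _ π, ?_, ?_, ?_, ?_, ?_⟩
  · rw [Over.comp_left]; infer_instance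
  · rw [Over.comp_left]; infer_instance
  · rw [Over.comp_left]; infer_instance
  · rw [Category.assoc, Category.assoc, pullback.condition]
  · rw [← pullback.condition, Category.assoc]

section KernelPair

variable {F : Sp S} {R U : Over S} (s t : R ⟶ U) (p : (yon S).obj U ⟶ F)
  (sqR : IsPullback ((yon S).map t) ((yon S).map s) p p)
  {U' V RV : Over S} (g : U' ⟶ U) (π : U' ⟶ V) (hπfl : Flat π.left)
  (hπfp : LocallyOfFinitePresentation π.left) (hπS : Surjective π.left)
  (q : (yon S).obj V ⟶ F) (hq : (yon S).map π ≫ q = (yon S).map g ≫ p)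
  (sV tV : RV ⟶ V)
  (hinj : ∀ (T : Over S) (r r' : T ⟶ RV), r ≫ tV = r' ≫ tV → r ≫ sV = r' ≫ sV → r = r')
  (hrel : ∀ (T : Over S) (a b : T ⟶ U'), (∃ r : T ⟶ R, r ≫ t = a ≫ g ∧ r ≫ s = b ≫ g) ↔
    (∃ r' : T ⟶ RV, r' ≫ tV = a ≫ π ∧ r' ≫ sV = b ≫ π))

include sqR hπfl hπfp hπS hq hinj hrel in
/-- The kernel pair of the descended chart map is the quotient relation. -/
theorem isPullback_chart : IsPullback ((yon S).map tV) ((yon S).map sV) q q := by
  have key : ∀ {T : Over S} (a' b' : T ⟶ V), (yon S).map a' ≫ q = (yon S).map b' ≫ q ↔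
      ∃ r' : T ⟶ RV, r' ≫ tV = a' ∧ r' ≫ sV = b' := by
    intro T a' b'
    obtain ⟨T', c, a, b, hc1, hc2, hc3, ha, hb⟩ := exists_common_lift π hπfl hπfp hπS a' b'
    have hcepi : Epi ((yon S).map c) := epi_yon_map_of_fppf c hc1 hc2 hc3
    have e1 : (yon S).map c ≫ (yon S).map a' ≫ q = (yon S).map (a ≫ g) ≫ p := by
      rw [← Category.assoc, ← Functor.map_comp, ← ha, Functor.map_comp, Category.assoc, hq,
        Functor.map_comp, Category.assoc]
    have e2 : (yon S).map c ≫ (yon S).map b' ≫ q = (yon S).map (b ≫ g) ≫ p := by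
      rw [← Category.assoc, ← Functor.map_comp, ← hb, Functor.map_comp, Category.assoc, hq,
        Functor.map_comp, Category.assoc]
    have hloc : (yon S).map (a ≫ g) ≫ p = (yon S).map (b ≫ g) ≫ p ↔
        ∃ r' : T' ⟶ RV, r' ≫ tV = c ≫ a' ∧ r' ≫ sV = c ≫ b' := by
      rw [← ha, ← hb, ← hrel T' a b]
      constructor
      · intro h
        obtain ⟨r, hr⟩ := (yon S).map_surjective (sqR.lift _ _ h)
        refine ⟨r, (yon S).map_injective ?_, (yon S).map_injective ?_⟩
        · rw [Functor.map_comp, hr, sqR.lift_fst]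
        · rw [Functor.map_comp, hr, sqR.lift_snd]
      · rintro ⟨r, h1, h2⟩
        rw [← h1, ← h2, Functor.map_comp, Functor.map_comp, Category.assoc, Category.assoc, sqR.w]
    constructor
    · intro h
      obtain ⟨r', hr'1, hr'2⟩ := hloc.1 (by rw [← e1, ← e2, h])
      -- descend `r'` along `c`
      obtain ⟨ρ, hρ⟩ := exists_desc_of_fppf c hc1 hc2 hc3 ((yon S).map r') (by
        rw [← Functor.map_comp, ← Functor.map_comp]
        congr 1
        apply hinj
        · rw [Category.assoc, Category.assoc, hr'1, ← Category.assoc, ← Category.assoc,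
            pullback.condition]
        · rw [Category.assoc, Category.assoc, hr'2, ← Category.assoc, ← Category.assoc,
            pullback.condition])
      obtain ⟨ρ₀, rfl⟩ := (yon S).map_surjective ρ
      refine ⟨ρ₀, (yon S).map_injective ?_, (yon S).map_injective ?_⟩
      · rw [← cancel_epi ((yon S).map c), Functor.map_comp, ← Category.assoc, hρ,
          ← Functor.map_comp, ← Functor.map_comp, hr'1]
      · rw [← cancel_epi ((yon S).map c), Functor.map_comp, ← Category.assoc, hρ,
          ← Functor.map_comp, ← Functor.map_comp, hr'2]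
    · rintro ⟨r', rfl, rfl⟩
      rw [← cancel_epi ((yon S).map c), e1, e2]
      exact hloc.2 ⟨c ≫ r', by rw [Category.assoc], by rw [Category.assoc]⟩
  refine Groth.Agent.H51.isPullback_of_forall_yon ((key tV sV).2 ⟨𝟙 _, Category.id_comp _,
    Category.id_comp _⟩) ?_
  intro T x y hxy
  obtain ⟨x₀, rfl⟩ := (yon S).map_surjective x
  obtain ⟨y₀, rfl⟩ := (yon S).map_surjective y
  obtain ⟨r', h1, h2⟩ := (key x₀ y₀).1 hxy
  refine ⟨(yon S).map r', ⟨by rw [← Functor.map_comp, h1], by rw [← Functor.map_comp, h2]⟩, ?_⟩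
  rintro ρ ⟨h1', h2'⟩
  obtain ⟨ρ₀, rfl⟩ := (yon S).map_surjective ρ
  congr 1
  apply hinj
  · apply (yon S).map_injective; rw [Functor.map_comp, h1', h1]
  · apply (yon S).map_injective; rw [Functor.map_comp, h2', h2]

end KernelPair

/-- **Relation-level assembly**: the fppf quotient of a flat lfp equivalence relation of schemes which
admits, around every point, local charts with étale quotient relations, is an algebraic space. -/
theorem isAlgSpace_quot_of_local_quotients {R U : Over S} (s t : R ⟶ U) (hEq : IsEqvRel s t)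
    (hsfl : Flat s.left) (hsfp : LocallyOfFinitePresentation s.left)
    (ht : LocallyOfFiniteType t.left)
    (hch : ∀ x : U.left, ∃ (U' V RV : Over S) (g : U' ⟶ U) (π : U' ⟶ V) (sV tV : RV ⟶ V),
      x ∈ Set.range g.left ∧ Flat g.left ∧ LocallyOfFinitePresentation g.left ∧
        Flat π.left ∧ LocallyOfFinitePresentation π.left ∧ Surjective π.left ∧
        IsEqvRel sV tV ∧ Etale sV.left ∧
        ∀ (T : Over S) (a b : T ⟶ U'), (∃ r : T ⟶ R, r ≫ t = a ≫ g ∧ r ≫ s = b ≫ g) ↔
          (∃ r' : T ⟶ RV, r' ≫ tV = a ≫ π ∧ r' ≫ sV = b ≫ π)) :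
    IsAlgSpace (QuotSh.quot Scheme.fppfPrecoverage s t) := by
  have sqR := Groth.Agent.H49.isPullback_quotMap hEq
  refine isAlgSpace_of_charts s t (Groth.Agent.H49.quotMap s t) sqR hsfl hsfp ht fun x => ?_
  obtain ⟨U', V, RV, g, π, sV, tV, hx, hgfl, hgfp, hπfl, hπfp, hπS, hEqV, hsVE, hrel⟩ := hch x
  -- the chart map by descent along `π`
  obtain ⟨q, hq⟩ := exists_desc_of_fppf π hπfl hπfp hπS
    ((yon S).map g ≫ Groth.Agent.H49.quotMap s t) (by
      obtain ⟨r', hr'1, hr'2⟩ := (hEqV.equivalence (pullback π π)).refl (pullback.fst π π ≫ π)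
      obtain ⟨r, hr1, hr2⟩ := (hrel (pullback π π) (pullback.fst π π) (pullback.snd π π)).2
        ⟨r', hr'1, by rw [hr'2, pullback.condition]⟩
      rw [← Category.assoc, ← Category.assoc, ← Functor.map_comp, ← Functor.map_comp, ← hr1, ← hr2,
        Functor.map_comp, Functor.map_comp, Category.assoc, Category.assoc, sqR.w])
  exact ⟨U', V, RV, g, π, q, sV, tV, hx, hgfl, hgfp, hπS, hq,
    isPullback_chart s t _ sqR g π hπfl hπfp hπS q hq sV tV hEqV.injective hrel, hsVE⟩

end Groth.Agent.H64.Boot3
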