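import Groth.Agent.H10.FlatDescent
import Mathlib.AlgebraicGeometry.Morphisms.FlatDescent
import Mathlib.AlgebraicGeometry.Morphisms.Flat

/-!
# Flatness descends along faithfully flat morphisms
-/

set_option autoImplicit false
universe u
open CategoryTheory CategoryTheory.Limits AlgebraicGeometry TensorProduct

namespace Groth.Agent.H64.Boot3

/-- Flatness of ring maps codescends along faithfully flat ring maps. -/
theorem flat_codescendsAlong_faithfullyFlat :
    RingHom.CodescendsAlong (fun f => RingHom.Flat f) (fun f => RingHom.FaithfullyFlat f) := by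
  intro R S R' S' _ _ _ _ _ _ _ _ _ _ _ hpo hQ hP
  have hR' : Module.FaithfullyFlat R R' := RingHom.faithfullyFlat_algebraMap_iff.1 hQ
  have hS' : Module.Flat R' S' := RingHom.flat_algebraMap_iff.1 hP
  rw [RingHom.flat_algebraMap_iff]
  have h1 : Module.Flat R S' := Module.Flat.trans R R' S'
  have hpo' : Algebra.IsPushout R R' S S' := hpo.symm
  have h2 : (algebraMap S S').FaithfullyFlat :=
    RingHom.FaithfullyFlat.isStableUnderBaseChange R R' S S' hQ
  have h3 : Module.FaithfullyFlat S S' := RingHom.faithfullyFlat_algebraMap_iff.1 h2
  exact Groth.Agent.H10.flat_of_flat_of_faithfullyFlat R S S'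

/-- Flatness of morphisms of schemes descends along fpqc coverings. -/
theorem flat_descendsAlong_fpqc :
    MorphismProperty.DescendsAlong (@Flat : MorphismProperty Scheme.{u})
      (@Surjective ⊓ @Flat ⊓ @QuasiCompact) :=
  HasRingHomProperty.descendsAlong_flat flat_codescendsAlong_faithfullyFlat

/-- Flatness of morphisms of schemes descends along fppf coverings. -/
theorem flat_descendsAlong_fppf :
    MorphismProperty.DescendsAlong (@Flat : MorphismProperty Scheme.{u})
      (@Surjective ⊓ @Flat ⊓ @LocallyOfFinitePresentation) := by
  haveI := flat_descendsAlong_fpqc.{u}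
  infer_instance

end Groth.Agent.H64.Boot3
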