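import Groth.Agent.H64.Boot3.Rep
import Groth.Agent.H65.QuotSpFppf
import Groth.Agent.H51.SpOpen
import Groth.Agent.H50.Fppf

/-!
# Open charts of a quotient sheaf

Let `p : h_U ⟶ F` be the quotient map of a flat lfp equivalence relation of schemes.  Given a flat lfp
morphism `g : U' ⟶ U`, an fppf covering `π : U' ⟶ V` and a map `q : h_V ⟶ F` with `π ≫ q = g ≫ p`, the
image subsheaf of `q` is an open subsheaf of `F`.
-/

set_option autoImplicit false
universe u
open CategoryTheory CategoryTheory.Limits AlgebraicGeometry Opposite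

namespace Groth.Agent.H64.Boot3

open AlgSp

variable {S : Scheme.{u}}

/-- A generalized element which locally factors through a subsheaf factors through it. -/
theorem exists_factor_of_locally {I F : Sp S} (m : I ⟶ F) [Mono m] {T : Over S}
    (a : (yon S).obj T ⟶ F) (W : Sieve T) (hW : W ∈ J S T)
    (h : ∀ ⦃T' : Over S⦄ (f : T' ⟶ T), W f → ∃ y : (yon S).obj T' ⟶ I, y ≫ m = (yon S).map f ≫ a) :
    ∃ ζ : (yon S).obj T ⟶ I, ζ ≫ m = a := by
  choose y hy using h
  obtain ⟨ρ, hρ⟩ := Groth.Agent.H65.QuotSpFppf.exists_glue_of_sieve W hW y (by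
    intro T' T'' g hg k
    rw [← cancel_mono m, hy, Category.assoc, hy, Functor.map_comp, Category.assoc])
  refine ⟨ρ, Groth.Agent.H53.yon_hom_ext_of_sieve _ _ W hW fun T' f hf => ?_⟩
  rw [← Category.assoc, hρ f hf, hy]

section Chart

variable {F : Sp S} {R U : Over S} (s t : R ⟶ U) (p : (yon S).obj U ⟶ F) [Epi p]
  (sqR : IsPullback ((yon S).map t) ((yon S).map s) p p) (hsfl : Flat s.left)
  (hsfp : LocallyOfFinitePresentation s.left) (ht : LocallyOfFiniteType t.left)
  {U' V : Over S} (g : U' ⟶ U) (hgfl : Flat g.left) (hgfp : LocallyOfFinitePresentation g.left)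
  (π : U' ⟶ V) (hπS : Surjective π.left)
  {I : Sp S} (e : (yon S).obj V ⟶ I) [Epi e] (m : I ⟶ F) [Mono m]
  (hq : (yon S).map π ≫ e ≫ m = (yon S).map g ≫ p)

include sqR hsfl hsfp ht hgfl hgfp hπS hq in
/-- The image of `q = e ≫ m` is an open subsheaf of `F`. -/
theorem repWith_isOpenImmersion_of_chart : RepWith @IsOpenImmersion m := by
  refine MorphismProperty.relative.of_exists fun T ξ => ?_
  obtain ⟨G, lG, σ, sqG, hσfl, hσfp, -⟩ := exists_rep_fppf s t p sqR hsfl hsfp ht ξ
  -- `G' = G ×_U U'`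
  let a : pullback lG g ⟶ G := pullback.fst lG g
  let b : pullback lG g ⟶ U' := pullback.snd lG g
  have hab : a ≫ lG = b ≫ g := pullback.condition
  have hafl : Flat a.left :=
    MorphismProperty.of_isPullback
      (P := MorphismProperty.inverseImage (@Flat : MorphismProperty Scheme.{u}) (Over.forget S))
      (IsPullback.of_hasPullback lG g).flip hgfl
  have hafp : LocallyOfFinitePresentation a.left :=
    MorphismProperty.of_isPullback
      (P := MorphismProperty.inverseImage
        (@LocallyOfFinitePresentation : MorphismProperty Scheme.{u}) (Over.forget S))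
      (IsPullback.of_hasPullback lG g).flip hgfp
  let σ' : pullback lG g ⟶ T := a ≫ σ
  have hσ'fl : Flat σ'.left := by rw [Over.comp_left]; infer_instance
  have hσ'fp : LocallyOfFinitePresentation σ'.left := by rw [Over.comp_left]; infer_instance
  have hσ'ξ : (yon S).map σ' ≫ ξ = (yon S).map b ≫ (yon S).map π ≫ e ≫ m := by
    rw [hq, Functor.map_comp, Category.assoc, ← sqG.w, ← Category.assoc, ← Functor.map_comp, hab,
      Functor.map_comp, Category.assoc]
  -- the open image
  let O : T.left.Opens := ⟨Set.range σ'.left, σ'.left.isOpenMap.isOpen_range⟩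
  let O' : Over S := Over.mk (O.ι ≫ T.hom)
  let j : O' ⟶ T := Over.homMk O.ι rfl
  have hjmono : Mono j := by
    refine ⟨fun {Z} u v huv => ?_⟩
    ext
    rw [← cancel_mono O.ι]
    exact congrArg (fun k => k.left) huv
  have hr : Set.range σ'.left ⊆ Set.range O.ι := by
    rw [Scheme.Opens.range_ι]
    exact fun _ h => h
  let σ''l : (pullback lG g).left ⟶ O.toScheme := IsOpenImmersion.lift O.ι σ'.left hr
  have hσ''l : σ''l ≫ O.ι = σ'.left := IsOpenImmersion.lift_fac _ _ _
  let σ'' : pullback lG g ⟶ O' := Over.homMk σ''l (by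
    change σ''l ≫ O.ι ≫ T.hom = _
    rw [← Category.assoc, hσ''l, Over.w])
  have hσ''j : σ'' ≫ j = σ' := by
    ext
    exact hσ''l
  have sqO : IsPullback (𝟙 (pullback lG g).left) σ''l σ'.left O.ι :=
    IsPullback.of_horiz_isIso_mono ⟨by rw [Category.id_comp, hσ''l]⟩
  have hσ''fl : Flat σ''.left := MorphismProperty.of_isPullback (P := @Flat) sqO hσ'fl
  have hσ''fp : LocallyOfFinitePresentation σ''.left :=
    MorphismProperty.of_isPullback (P := @LocallyOfFinitePresentation) sqO hσ'fp
  have hσ''S : Surjective σ''.left := by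
    refine ⟨fun z => ?_⟩
    obtain ⟨w, hw⟩ : (O.ι z) ∈ Set.range σ'.left := z.2
    refine ⟨w, ?_⟩
    apply O.ι.isOpenEmbedding.injective
    rw [← Scheme.Hom.comp_apply]
    change (σ''l ≫ O.ι) w = _
    rw [hσ''l, hw]
  -- the restriction of `ξ` to `O` factors through `m`
  obtain ⟨ζ, hζ⟩ := exists_factor_of_locally m ((yon S).map j ≫ ξ) _
    (Groth.Agent.H50.generate_singleton_mem_J σ'') (by
      rintro T' f ⟨Z, c, _, ⟨_⟩, rfl⟩
      refine ⟨(yon S).map c ≫ (yon S).map b ≫ (yon S).map π ≫ e, ?_⟩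
      have h1 : (yon S).map σ'' ≫ (yon S).map j ≫ ξ =
          (yon S).map b ≫ (yon S).map π ≫ e ≫ m := by
        rw [← Category.assoc, ← Functor.map_comp, hσ''j, hσ'ξ]
      simp only [Functor.map_comp, Category.assoc]
      rw [h1])
  refine ⟨O', ζ, j, ?_, (inferInstance : IsOpenImmersion O.ι)⟩
  refine Groth.Agent.H51.isPullback_of_forall_yon hζ ?_
  intro T' x y hxy
  obtain ⟨y₀, rfl⟩ := (yon S).map_surjective y
  -- `y₀` lands in `O`
  have hrange : Set.range y₀.left ⊆ Set.range O.ι := by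
    rw [Scheme.Opens.range_ι]
    rintro _ ⟨t', rfl⟩
    obtain ⟨T'', v, l, -, -, hp, hl⟩ := Groth.Agent.H65.QuotEtale.exists_lifts e x
    obtain ⟨t'', ht''⟩ := hp t'
    -- lift further along `π`
    let c : pullback (l t') π ⟶ U' := pullback.snd (l t') π
    let d₁ : pullback (l t') π ⟶ T'' t' := pullback.fst (l t') π
    have hd₁S : Surjective d₁.left :=
      MorphismProperty.of_isPullback
        (P := MorphismProperty.inverseImage (@Surjective : MorphismProperty Scheme.{u})
          (Over.forget S))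
        (IsPullback.of_hasPullback (l t') π).flip hπS
    obtain ⟨t''', ht'''⟩ := hd₁S.surj t''
    have hcomm : (yon S).map (c ≫ g) ≫ p = (yon S).map (d₁ ≫ v t' ≫ y₀) ≫ ξ := by
      rw [Functor.map_comp, Category.assoc, ← hq, ← Category.assoc, ← Functor.map_comp,
        ← (pullback.condition : d₁ ≫ l t' = c ≫ π), Functor.map_comp, Category.assoc,
        ← Category.assoc ((yon S).map (l t')), hl t', Category.assoc, hxy, Functor.map_comp,
        Functor.map_comp, Category.assoc, Category.assoc]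
    obtain ⟨d, hd⟩ := (yon S).map_surjective (sqG.lift _ _ hcomm)
    have hd1 : d ≫ lG = c ≫ g := by
      apply (yon S).map_injective
      rw [Functor.map_comp, hd, sqG.lift_fst]
    have hd2 : d ≫ σ = d₁ ≫ v t' ≫ y₀ := by
      apply (yon S).map_injective
      rw [Functor.map_comp, hd, sqG.lift_snd]
    have hk : pullback.lift d c hd1 ≫ σ' = d₁ ≫ v t' ≫ y₀ := by
      change pullback.lift d c hd1 ≫ pullback.fst lG g ≫ σ = _
      rw [pullback.lift_fst_assoc, hd2]
    refine ⟨(pullback.lift d c hd1).left t''', ?_⟩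
    rw [← Scheme.Hom.comp_apply, ← Over.comp_left, hk, Over.comp_left, Over.comp_left,
      Scheme.Hom.comp_apply, Scheme.Hom.comp_apply, ht''', ht'']
  let ρl : T'.left ⟶ O.toScheme := IsOpenImmersion.lift O.ι y₀.left hrange
  have hρl : ρl ≫ O.ι = y₀.left := IsOpenImmersion.lift_fac _ _ _
  let ρ₀ : T' ⟶ O' := Over.homMk ρl (by
    change ρl ≫ O.ι ≫ T.hom = _
    rw [← Category.assoc, hρl, Over.w])
  have hρ₀ : ρ₀ ≫ j = y₀ := by
    ext
    exact hρl
  refine ⟨(yon S).map ρ₀, ⟨?_, ?_⟩, ?_⟩
  · rw [← cancel_mono m, Category.assoc, hζ, ← Category.assoc, ← Functor.map_comp, hρ₀, hxy]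
  · rw [← Functor.map_comp, hρ₀]
  · rintro ρ' ⟨-, h2⟩
    obtain ⟨ρ'₀, rfl⟩ := (yon S).map_surjective ρ'
    congr 1
    rw [← cancel_mono j, hρ₀]
    apply (yon S).map_injective
    rw [Functor.map_comp, h2]

end Chart

end Groth.Agent.H64.Boot3
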