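import Groth.Agent.H65.QuotFppf
import Groth.Agent.H65.QuotEtale
import Groth.Agent.H65.FppfFamilyDescent
import Groth.Agent.H64.Boot3.FlatDescends

/-!
# The quotient map of a flat lfp equivalence relation is representable, flat and lfp

Let `p : h_U ⟶ F` be an epimorphism of fppf sheaves whose kernel pair is `h_R` for `s, t : R ⟶ U` flat
and locally of finite presentation.  Then for every `ξ : h_T ⟶ F` the fibre product `h_U ×_F h_T` is a
scheme `G`, and `G ⟶ T` is flat, locally of finite presentation and surjective.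
-/

set_option autoImplicit false
universe u
open CategoryTheory CategoryTheory.Limits AlgebraicGeometry Opposite

namespace Groth.Agent.H64.Boot3

open AlgSp

variable {S : Scheme.{u}}

/-- Representability, flatness and local finite presentation of the quotient map. -/
theorem exists_rep_fppf {F : Sp S} {R U : Over S} (s t : R ⟶ U) (p : (yon S).obj U ⟶ F) [Epi p]
    (sqR : IsPullback ((yon S).map t) ((yon S).map s) p p) (hsfl : Flat s.left)
    (hsfp : LocallyOfFinitePresentation s.left) (ht : LocallyOfFiniteType t.left)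
    {T : Over S} (ξ : (yon S).obj T ⟶ F) :
    ∃ (G : Over S) (lG : G ⟶ U) (σ : G ⟶ T),
      IsPullback ((yon S).map lG) ((yon S).map σ) p ξ ∧ Flat σ.left ∧
        LocallyOfFinitePresentation σ.left ∧ Surjective σ.left := by
  obtain ⟨T', v, l, hfl, hlfp, hp, hl⟩ := Groth.Agent.H65.QuotEtale.exists_lifts p ξ
  obtain ⟨G, e, γ, -, -, -⟩ := Groth.Agent.H65.QuotFppf.exists_rep_pullback s t p p sqR ht ξ T' v l
    hfl hlfp (fun x => ⟨x, hp x⟩) hl
  obtain ⟨σ, hσ⟩ := (yon S).map_surjective (e.hom ≫ pullback.snd p ξ)
  obtain ⟨lG, hlG⟩ := (yon S).map_surjective (e.hom ≫ pullback.fst p ξ)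
  have sq : IsPullback (pullback.fst p ξ) (pullback.snd p ξ) p ξ := IsPullback.of_hasPullback p ξ
  have sqL : IsPullback e.hom (e.hom ≫ pullback.snd p ξ) (pullback.snd p ξ) (𝟙 _) :=
    IsPullback.of_horiz_isIso ⟨by rw [Category.comp_id]⟩
  have sqB := sqL.paste_horiz sq
  rw [Category.id_comp, ← hσ, ← hlG] at sqB
  -- the local models
  have key : ∀ x : T.left, ∃ (w₁ : pullback s (l x) ⟶ G),
      IsPullback w₁.left (pullback.snd s (l x)).left σ.left (v x).left := fun x => by
    obtain ⟨w₁, hw₁⟩ := (yon S).map_surjective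
      (Groth.Agent.H65.QuotFppf.tV s t p p sqR ξ (v x) (l x) (hl x) ≫ e.inv)
    have h1 := Groth.Agent.H65.QuotFppf.isPullback_tV s t p p sqR ξ (v x) (l x) (hl x)
    have h2 : IsPullback ((yon S).map w₁) ((yon S).map (pullback.snd s (l x))) ((yon S).map σ)
        ((yon S).map (v x)) := by
      rw [hw₁, hσ]
      refine IsPullback.of_iso h1 (Iso.refl _) e.symm (Iso.refl _) (Iso.refl _) ?_ ?_ ?_ ?_
      · rw [Iso.refl_hom, Category.id_comp, Iso.symm_hom]
      · rw [Iso.refl_hom, Iso.refl_hom, Category.id_comp, Category.comp_id]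
      · rw [Iso.symm_hom, Iso.refl_hom, Category.comp_id, Iso.inv_hom_id_assoc]
      · rw [Iso.refl_hom, Iso.refl_hom, Category.id_comp, Category.comp_id]
    have h3 : IsPullback w₁ (pullback.snd s (l x)) σ (v x) :=
      IsPullback.of_map (yon S) ((yon S).map_injective (by
        rw [Functor.map_comp, Functor.map_comp]; exact h2.w)) h2
    exact ⟨w₁, h3.map (Over.forget S)⟩
  choose w₁ sqW using key
  have hW1 : ∀ x, Flat (pullback.snd s (l x)).left := fun x =>
    MorphismProperty.of_isPullback
      (P := MorphismProperty.inverseImage (@Flat : MorphismProperty Scheme.{u}) (Over.forget S))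
      (IsPullback.of_hasPullback s (l x)) hsfl
  have hW2 : ∀ x, LocallyOfFinitePresentation (pullback.snd s (l x)).left := fun x =>
    MorphismProperty.of_isPullback
      (P := MorphismProperty.inverseImage
        (@LocallyOfFinitePresentation : MorphismProperty Scheme.{u}) (Over.forget S))
      (IsPullback.of_hasPullback s (l x)) hsfp
  haveI := flat_descendsAlong_fppf.{u}
  refine ⟨G, lG, σ, sqB, ?_, ?_, ?_⟩
  · exact Groth.Agent.H65.FppfDesc.of_fppf_family @Flat σ.left (fun x => (T' x).left)
      (fun x => (pullback s (l x)).left) (fun x => (v x).left) hfl hlfp (fun x => ⟨x, hp x⟩)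
      (fun x => (w₁ x).left) (fun x => (pullback.snd s (l x)).left) sqW hW1
  · exact Groth.Agent.H65.FppfDesc.of_fppf_family @LocallyOfFinitePresentation σ.left
      (fun x => (T' x).left)
      (fun x => (pullback s (l x)).left) (fun x => (v x).left) hfl hlfp (fun x => ⟨x, hp x⟩)
      (fun x => (w₁ x).left) (fun x => (pullback.snd s (l x)).left) sqW hW2
  · refine ⟨fun x => ?_⟩
    obtain ⟨u', hu'⟩ := hp x
    -- `s` is surjective (it has a section)
    obtain ⟨r, hr⟩ := (yon S).map_surjective (sqR.lift (𝟙 _) (𝟙 _) rfl)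
    have hrs : r ≫ s = 𝟙 U := by
      apply (yon S).map_injective
      rw [Functor.map_comp, hr, sqR.lift_snd, CategoryTheory.Functor.map_id]
    have hsS : Surjective s.left := ⟨fun y => ⟨r.left y, by
      rw [← Scheme.Hom.comp_apply, ← Over.comp_left, hrs]; rfl⟩⟩
    have hS : Surjective (pullback.snd s (l x)).left :=
      MorphismProperty.of_isPullback
        (P := MorphismProperty.inverseImage (@Surjective : MorphismProperty Scheme.{u})
          (Over.forget S))
        (IsPullback.of_hasPullback s (l x)) hsS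
    obtain ⟨w, hw⟩ := hS.surj u'
    refine ⟨(w₁ x).left w, ?_⟩
    rw [← Scheme.Hom.comp_apply, (sqW x).w, Scheme.Hom.comp_apply, hw, hu']

end Groth.Agent.H64.Boot3
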